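import Groth.Prelude.Def_K0Var
import Mathlib.AlgebraicGeometry.Morphisms.FiniteType
import Mathlib.AlgebraicGeometry.Restrict
import Mathlib.AlgebraicGeometry.Noetherian
import Mathlib.AlgebraicGeometry.IdealSheaf.Subscheme
import Mathlib.AlgebraicGeometry.PullbackCarrier

/-!
# Zariski locally trivial fibrations in the Grothendieck ring
-/

universe u

open CategoryTheory CategoryTheory.Limits AlgebraicGeometry

noncomputable section

namespace Groth.Agent.K0Lib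

variable {k : Type u} [Field k] {X Y F : Scheme.{u}}
  (pY : Y ⟶ Spec (CommRingCat.of k)) [LocallyOfFiniteType pY] [QuasiCompact pY]
  (pF : F ⟶ Spec (CommRingCat.of k)) [LocallyOfFiniteType pF] [QuasiCompact pF]
  (f : X ⟶ Y) [LocallyOfFiniteType f] [QuasiCompact f]

theorem exists_pullback_iso_of_trivial {U : Y.Opens} (e : (f ⁻¹ᵁ U).toScheme ≅ pullback (U.ι ≫ pY) pF)
    (he : e.hom ≫ pullback.fst (U.ι ≫ pY) pF = f ∣_ U) {Z : Scheme.{u}} (g : Z ⟶ Y)
    (hg : Set.range g ⊆ U) :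
    ∃ φ : pullback f g ≅ pullback (g ≫ pY) pF, φ.hom ≫ pullback.fst (g ≫ pY) pF = pullback.snd f g := by
  have hrange : Set.range g ⊆ Set.range U.ι := by rw [Scheme.Opens.range_ι]; exact hg
  set g' := IsOpenImmersion.lift U.ι g hrange
  have hg' : g' ≫ U.ι = g := IsOpenImmersion.lift_fac _ _ _
  have sq1 : IsPullback (f ∣_ U) (f ⁻¹ᵁ U).ι U.ι f := isPullback_morphismRestrict f U
  have sq2 : IsPullback (pullback.fst (f ∣_ U) g') (pullback.snd (f ∣_ U) g') (f ∣_ U) g' :=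
    IsPullback.of_hasPullback _ _
  have sqX : IsPullback (pullback.fst (f ∣_ U) g' ≫ (f ⁻¹ᵁ U).ι) (pullback.snd (f ∣_ U) g') f g := by
    have := sq2.paste_horiz sq1.flip
    rwa [hg'] at this
  have sqU : IsPullback (e.hom ≫ pullback.snd (U.ι ≫ pY) pF) (f ∣_ U) pF (U.ι ≫ pY) :=
    ((IsPullback.of_hasPullback (U.ι ≫ pY) pF).flip).of_iso e.symm (Iso.refl _) (Iso.refl _) (Iso.refl _)
      (by simp) (by simp [← he]) (by simp) (by simp)
  have sqY : IsPullback (pullback.fst (f ∣_ U) g' ≫ e.hom ≫ pullback.snd (U.ι ≫ pY) pF)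
      (pullback.snd (f ∣_ U) g') pF (g ≫ pY) := by
    have := sq2.paste_horiz sqU
    rwa [← Category.assoc g', hg'] at this
  refine ⟨sqX.isoPullback.symm ≪≫ sqY.flip.isoPullback, ?_⟩
  simp only [Iso.trans_hom, Iso.symm_hom, Category.assoc, IsPullback.isoPullback_hom_fst, IsPullback.isoPullback_inv_snd]

theorem cl_pullback_of_cover :
    ∀ (n : ℕ) (U : Fin n → Y.Opens)
      (_ : ∀ i, ∃ e : (f ⁻¹ᵁ U i).toScheme ≅ pullback ((U i).ι ≫ pY) pF,
        e.hom ≫ pullback.fst ((U i).ι ≫ pY) pF = f ∣_ U i)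
      {Z : Scheme.{u}} (g : Z ⟶ Y) [LocallyOfFiniteType g] [QuasiCompact g]
      (_ : Set.range g ⊆ ⋃ i, (U i : Set Y)),
      K0Var.cl (pullback.snd f g ≫ g ≫ pY) = K0Var.cl (g ≫ pY) * K0Var.cl pF
  | 0, U, _, Z, g, _, _, hg => by
    haveI : IsEmpty Z := ⟨fun z => by simpa using hg ⟨z, rfl⟩⟩
    haveI : IsEmpty ↥(pullback f g) := Function.isEmpty (pullback.snd f g).base
    rw [K0Var.cl_eq_gen_cl, K0Var.cl_eq_gen_cl (g ≫ pY),
      @K0Var.Gen.cl_eq_zero_of_isEmpty _ _ ‹IsEmpty ↥(pullback f g)›,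
      @K0Var.Gen.cl_eq_zero_of_isEmpty _ _ ‹IsEmpty Z›, zero_mul]
  | n + 1, U, hU, Z, g, _, _, hg => by
    haveI : IsLocallyNoetherian Z := LocallyOfFiniteType.isLocallyNoetherian (g ≫ pY)
    let O : Z.Opens := g ⁻¹ᵁ U 0
    let Cc : TopologicalSpace.Closeds Z := ⟨(O : Set Z)ᶜ, O.isOpen.isClosed_compl⟩
    let I := Scheme.IdealSheafData.vanishingIdeal Cc
    let i : I.subscheme ⟶ Z := I.subschemeι
    let j : (O : Scheme.{u}) ⟶ Z := O.ι
    have hi : Set.range i = (O : Set Z)ᶜ := by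
      rw [Scheme.IdealSheafData.range_subschemeι, Scheme.IdealSheafData.coe_support_vanishingIdeal]
      rfl
    have hj : Set.range j = (O : Set Z) := Scheme.Opens.range_ι O
    have hZ : K0Var.cl (g ≫ pY) = K0Var.cl (i ≫ g ≫ pY) + K0Var.cl (j ≫ g ≫ pY) :=
      K0Var.cl_scissor (g ≫ pY) i j (by rw [hi, hj])
    have hW : K0Var.cl (pullback.snd f g ≫ g ≫ pY) =
        K0Var.cl (pullback.fst (pullback.snd f g) i ≫ pullback.snd f g ≫ g ≫ pY) +
        K0Var.cl (pullback.fst (pullback.snd f g) j ≫ pullback.snd f g ≫ g ≫ pY) :=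
      K0Var.cl_scissor _ _ _ (by
        rw [Scheme.Pullback.range_fst, Scheme.Pullback.range_fst, hi, hj, Set.preimage_compl])
    have hpiece : ∀ {W : Scheme.{u}} (a : W ⟶ Z) [LocallyOfFiniteType a] [QuasiCompact a],
        K0Var.cl (pullback.fst (pullback.snd f g) a ≫ pullback.snd f g ≫ g ≫ pY) =
          K0Var.cl (pullback.snd f (a ≫ g) ≫ (a ≫ g) ≫ pY) := fun a _ _ => by
      refine K0Var.cl_congr _ _ (pullbackLeftPullbackSndIso f g a) ?_
      rw [← Category.assoc (pullbackLeftPullbackSndIso f g a).hom, pullbackLeftPullbackSndIso_hom_snd,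
        Category.assoc, ← pullback.condition_assoc]
    have h0 : K0Var.cl (pullback.snd f (j ≫ g) ≫ (j ≫ g) ≫ pY) = K0Var.cl ((j ≫ g) ≫ pY) * K0Var.cl pF := by
      obtain ⟨e, he⟩ := hU 0
      obtain ⟨φ, hφ⟩ := exists_pullback_iso_of_trivial pY pF f e he (j ≫ g) (by
        rintro _ ⟨z, rfl⟩
        exact z.2)
      rw [← K0Var.cl_mul]
      exact K0Var.cl_congr _ _ φ (by rw [← Category.assoc φ.hom, hφ])
    have h1 := cl_pullback_of_cover n (fun i => U i.succ) (fun i => hU i.succ) (i ≫ g) (by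
      rintro _ ⟨z, rfl⟩
      obtain ⟨m, hm⟩ := Set.mem_iUnion.mp (hg ⟨i z, rfl⟩)
      have hz : i z ∉ (O : Set Z) := by
        have : i z ∈ Set.range i := ⟨z, rfl⟩
        rwa [hi] at this
      rcases Fin.eq_zero_or_eq_succ m with rfl | ⟨m', rfl⟩
      · exact absurd hm hz
      · exact Set.mem_iUnion.mpr ⟨m', hm⟩)
    simp only [Category.assoc] at h0 h1 hpiece
    rw [hW, hpiece, hpiece, hZ, add_mul, h0, h1]

theorem cl_fibration
    (hf : ∀ y : Y, ∃ (U : Y.Opens) (e : (f ⁻¹ᵁ U).toScheme ≅ pullback (U.ι ≫ pY) pF),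
      y ∈ U ∧ e.hom ≫ pullback.fst (U.ι ≫ pY) pF = f ∣_ U) :
    K0Var.cl (f ≫ pY) = K0Var.cl pY * K0Var.cl pF := by
  haveI : CompactSpace Y := QuasiCompact.compactSpace_of_compactSpace pY
  choose U e hyU he using hf
  obtain ⟨t, ht⟩ := isCompact_univ.elim_finite_subcover (fun y : Y => (U y : Set Y)) (fun y => (U y).isOpen)
    (fun y _ => Set.mem_iUnion.mpr ⟨y, hyU y⟩)
  let σ := t.equivFin.symm
  have h := cl_pullback_of_cover pY pF f t.card (fun i => U (σ i)) (fun i => ⟨e _, he _⟩) (𝟙 Y) (fun y _ => by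
    obtain ⟨z, hz, hy⟩ := Set.mem_iUnion₂.mp (ht (Set.mem_univ y))
    exact Set.mem_iUnion.mpr ⟨σ.symm ⟨z, hz⟩, by simpa [σ] using hy⟩)
  simp only [Category.id_comp] at h
  rw [← h]
  refine (K0Var.cl_congr _ _ (asIso (pullback.fst f (𝟙 Y))) ?_).symm
  simp [pullback.condition_assoc]

end Groth.Agent.K0Lib
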